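import Cfsg.Agent.P43.Fus

/-!
# P43/Cw: the centraliser of an involution of the second class and of an element of order three
-/

set_option autoImplicit false
set_option maxRecDepth 100000

namespace Cfsg.Agent.P43

open Cfsg.Agent.Comp Cfsg.Agent.Core Cfsg.Agent.M12R Subgroup

universe u

variable {G : Type u} [Group G] {φ : El DH →* G} {d : G}

/-- the local data -/
structure PD (φ : El DH →* G) (d : G) : Prop extends CM φ mz where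
  dd : d * d = 1
  dz : d * 𝐳 * d⁻¹ = 𝐭
  dx : d * 𝐱 * d⁻¹ = 𝐱⁻¹
  dv : d * 𝐯 * d⁻¹ = 𝐯
  zv' : ¬ IsConj 𝐳 𝐯
  zw' : ¬ IsConj 𝐳 𝐰

theorem exists_pd [Finite G] (h : CM φ mz) (hG : ∀ H : Subgroup G, H.index ≠ 2) :
    ∃ (φ : El DH →* G) (d : G), PD φ d := by
  obtain ⟨ψ, h1, h2, h3, h4⟩ := exists_fus h hG
  obtain ⟨d, a, b, c, e⟩ := exists_d h1 h2
  exact ⟨ψ, d, h1, a, b, c, e, h3, h4⟩

theorem back {d a b : G} (dd : d * d = 1) (e : d * a * d⁻¹ = b) : d * b * d⁻¹ = a := by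
  rw [← e]
  calc _ = d * d * a * (d * d)⁻¹ := by group
    _ = _ := by rw [dd]; group

theorem cj_mul {d a b a' b' : G} (e : d * a * d⁻¹ = a') (e' : d * b * d⁻¹ = b') : d * (a * b) * d⁻¹ = a' * b' := by
  rw [← e, ← e']; group

theorem cj_cj {d e a b c : G} (h : d * a * d⁻¹ = b) (h' : e * b * e⁻¹ = c) : e * d * a * (e * d)⁻¹ = c := by
  rw [← h', ← h]; group

namespace PD

theorem di (h : PD φ d) : d⁻¹ = d := inv_eq_of_mul_eq_one_right h.dd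

theorem dt (h : PD φ d) : d * 𝐭 * d⁻¹ = 𝐳 := back h.dd h.dz

theorem zt (h : PD φ d) : IsConj 𝐳 𝐭 := cj_of d h.dz

theorem dw (h : PD φ d) : d * 𝐰 * d⁻¹ = 𝐰 := by
  rw [show 𝐰 = 𝐳 * 𝐭 from mdl h.inj, cj_mul h.dz h.dt]; exact mdl h.inj

theorem dp (h : PD φ d) : d * (𝐮 * 𝐭 * 𝐮) * d⁻¹ = 𝐮 * 𝐭 * 𝐮 := by
  rw [show 𝐮 * 𝐭 * 𝐮 = 𝐳 * 𝐭 * 𝐯 from mdl h.inj, cj_mul (cj_mul h.dz h.dt) h.dv]; exact mdl h.inj

theorem r2 (h : PD φ d) : d * (𝐱 * (d * 𝐱)) = 1 := by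
  calc _ = d * 𝐱 * d⁻¹ * (d * d) * 𝐱 := by group
    _ = 1 := by rw [h.dx, h.dd]; group

theorem r3 (h : PD φ d) : d * (𝐮 * (𝐭 * (𝐮 * (d * (𝐮 * (𝐭 * 𝐮)))))) = 1 := by
  calc _ = d * (𝐮 * 𝐭 * 𝐮) * d⁻¹ * (d * d) * (𝐮 * 𝐭 * 𝐮) := by group
    _ = 1 := by rw [h.dp, h.dd, mul_one]; exact mdl h.inj

theorem r4 (h : PD φ d) {a : G} (ha : a = 𝐳) : d * (𝐭 * (d * a)) = 1 := by
  calc _ = d * 𝐭 * d⁻¹ * (d * d) * a := by group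
    _ = 1 := by rw [h.dt, h.dd, mul_one, ha]; exact mdl h.inj

theorem du (h : PD φ d) : d * (𝐮 * (d * (𝐮 * (d * 𝐮)))) = 1 := by
  have uu : 𝐮 * 𝐮 = 1 := mdl h.inj
  have e1 : d * 𝐮 * 𝐳 * (d * 𝐮)⁻¹ = 𝐭 := cj_cj (mdl h.inj) h.dz
  have e2 : d * 𝐮 * 𝐭 * (d * 𝐮)⁻¹ = 𝐮 * 𝐭 * 𝐮 := cj_cj (mdl h.inj) h.dp
  have e3 : d * 𝐮 * (𝐮 * 𝐭 * 𝐮) * (d * 𝐮)⁻¹ = 𝐳 := cj_cj (mdl h.inj) h.dt
  have e4 : d * 𝐮 * 𝐯 * (d * 𝐮)⁻¹ = 𝐯 := cj_cj (mdl h.inj) h.dv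
  obtain ⟨b, hb⟩ := (h.cent _).1 (comm_of_cj (cj_cj (cj_cj e1 e2) e3))
  have i1 : 𝐮 * φ b * 𝐮 = (φ b)⁻¹ := by
    rw [hb, eq_inv_iff_mul_eq_one]
    simp only [mul_assoc, mul_inv_eq_iff_eq_mul.1 (cj_fix (rfl : 𝐮 * 𝐮 = 𝐮 * 𝐮)), ← mul_assoc 𝐮 𝐮, uu, one_mul,
      ← mul_assoc d d, h.dd]
  have i2 : d * φ b * d⁻¹ = (φ b)⁻¹ := by
    rw [hb, eq_inv_iff_mul_eq_one, h.di]
    simp only [mul_assoc, ← mul_assoc 𝐮 𝐮, uu, one_mul, ← mul_assoc d d, h.dd]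
  rcases f_CA b (h.inj (by rw [map_mul, map_mul, hb]; exact comm_of_cj (cj_cj (cj_cj e2 e3) e1)))
    (h.inj (by rw [map_mul, map_mul, hb]; exact comm_of_cj (cj_cj (cj_cj e4 e4) e4)))
    (h.inj (by rw [map_mul, map_mul, map_inv, i1])) with rfl | rfl | rfl | rfl
  · rw [← map_one φ, hb]; simp only [mul_assoc]
  · obtain ⟨ψ, h1, -⟩ := El.exists_hom (D := DB) (c := fun n => [𝐭, 𝐮, 𝐱, 𝐱⁻¹, d].getD n 1) fun w hw => by
      simp only [DB, RDB, List.mem_cons, List.not_mem_nil, or_false] at hw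
      rcases hw with rfl | rfl | rfl | rfl | rfl | rfl | rfl | rfl | rfl | rfl | rfl | rfl | rfl <;>
        simp only [ev_cons, ev_nil, List.getD_cons_succ, List.getD_cons_zero, mul_one]
      iterate 8 exact mdl h.inj
      exacts [h.dd, h.r2, h.r3, h.r4 (mdl h.inj), by
        simp only [← mul_assoc] at hb ⊢
        rw [← hb]; exact mdl h.inj]
    have := h1 0 (by decide)
    rw [b_l, map_one] at this
    exact absurd this.symm (show 𝐭 ≠ 1 from mdl h.inj)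
  · exact absurd (h.dz.symm.trans i2) (mdl h.inj)
  · rw [map_mul, cj_mul h.dz h.dv] at i2
    exact absurd i2 (mdl h.inj)

theorem exists_psi (h : PD φ d) : ∃ ψ : El DN →* G, ψ nd = d ∧ ψ nu = 𝐮 ∧ ψ nw = 𝐰 ∧ ψ nv = 𝐯 ∧
    (∀ i j k l m, ψ (pr nz nt nv nv2 i j k l * nx ^ m) = φ (pr mz mt mv mv2 i j k l * mx ^ m)) ∧
    ∀ H : Subgroup G, φ.range ≤ H → d ∈ H → ∀ c, ψ c ∈ H := by
  obtain ⟨ψ, h1, h2⟩ := El.exists_hom (D := DN) (c := fun n => [𝐭, 𝐮, 𝐱, 𝐱⁻¹, d].getD n 1) fun w hw => by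
    simp only [DN, RDN, List.mem_cons, List.not_mem_nil, or_false] at hw
    rcases hw with rfl | rfl | rfl | rfl | rfl | rfl | rfl | rfl | rfl | rfl | rfl | rfl | rfl <;>
      simp only [ev_cons, ev_nil, List.getD_cons_succ, List.getD_cons_zero, mul_one]
    iterate 8 exact mdl h.inj
    exacts [h.dd, h.r2, h.r3, h.r4 (mdl h.inj), h.du]
  obtain ⟨l0, l1, l2, -, l4⟩ := n_l
  have a0 : ψ nt = 𝐭 := l0 ▸ h1 0 (by decide)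
  have a1 : ψ nu = 𝐮 := l1 ▸ h1 1 (by decide)
  have a2 : ψ nx = 𝐱 := l2 ▸ h1 2 (by decide)
  have a3 : ψ nz = 𝐳 := by rw [n_eq.1, z_eq.1]; simp only [map_mul, map_inv, a0, a1, a2]
  have a4 : ψ nv = 𝐯 := by rw [n_eq.2.1, z_eq.2.1]; simp only [map_mul, map_inv, a0, a1, a2]
  have a5 : ψ nv2 = φ mv2 := by rw [n_eq.2.2.1, z_eq.2.2.1]; simp only [map_mul, map_inv, a4, a2]
  refine ⟨ψ, l4 ▸ h1 4 (by decide), a1, by rw [n_eq.2.2.2, z_eq.2.2.2, map_mul, map_mul, a3, a0], a4,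
    fun i j k l m => by simp only [pr, map_mul, map_pow, a0, a2, a3, a4, a5], fun H hH hd c => ?_⟩
  refine (h2.le.trans (gen_le.2 fun i hi => ?_)) ⟨c, rfl⟩
  have hi : i < 5 := hi
  interval_cases i
  exacts [hH ⟨_, rfl⟩, hH ⟨_, rfl⟩, hH ⟨_, rfl⟩, inv_mem (hH ⟨_, rfl⟩), hd]

theorem split (h : PD φ d) {e : G} (e1 : e * 𝐳 * e⁻¹ = 𝐭) (e2 : e * 𝐰 = 𝐰 * e) :
    ∃ b, b * mt = mt * b ∧ φ b = d * e := by
  obtain ⟨b, hb⟩ := (h.cent _).1 (comm_of_cj (cj_cj e1 h.dt))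
  refine ⟨b, h.inj ?_, hb⟩
  rw [map_mul, map_mul, hb]
  refine comm_of_cj (cj_cj (b := 𝐳) ?_ h.dz)
  rw [show 𝐭 = 𝐳 * 𝐰 from mdl h.inj, cj_mul e1 (cj_fix e2)]; exact mdl h.inj

theorem out (h : PD φ d) {e : G} (ee : e * e = 1) (e1 : e * 𝐳 * e⁻¹ = 𝐭) (e2 : e * 𝐰 = 𝐰 * e) :
    ∃ k, (∀ H : Subgroup G, φ.range ≤ H → d ∈ H → k ∈ H) ∧ k * 𝐰 * k⁻¹ = e := by
  obtain ⟨ψ, a1, a2, a3, a4, a5, a6⟩ := h.exists_psi
  obtain ⟨b, b1, b2⟩ := h.split e1 e2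
  obtain ⟨i, hi, j, hj, k, hk, l, hl, m, hm, rfl⟩ := f_B b b1
  have he : ψ (nd * (pr nz nt nv nv2 i j k l * nx ^ m)) = e := by
    rw [map_mul, a1, a5, b2, ← mul_assoc, h.dd, one_mul]
  rcases n_out i hi j hj k hk l hl m hm _ rfl with ⟨i, -, j, -, k, -, l, -, m, -, c1, c2⟩ | ⟨c, hc⟩
  · have := congrArg ψ c1
    rw [map_mul, he, ee, a5, eq_comm, map_eq_one_iff _ h.inj] at this
    exact absurd this c2
  · obtain ⟨c', hc'⟩ := n_vw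
    refine ⟨ψ c * 𝐲 * ψ c', fun H hH hd => mul_mem (mul_mem (a6 H hH hd c) (hH ⟨_, rfl⟩)) (a6 H hH hd c'), ?_⟩
    refine cj_cj (b := 𝐯) (by rw [← a3, ← a4, ← hc']; simp only [map_mul, map_inv]) (cj_cj (b := 𝐮) (mdl h.inj) ?_)
    rw [← he, ← hc, ← a2]; simp only [map_mul, map_inv]

/-- elements of the centraliser of `w` -/
noncomputable def el (φ : El DH →* G) (r : El DH) (hr : r * mw = mw * r := by decide +kernel) :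
    centralizer ({𝐰} : Set G) := ⟨φ r, mem_cent.2 (by rw [← map_mul, hr, map_mul])⟩

theorem cw [Finite G] (h : PD φ d) {c : G} (hc : c * 𝐰 = 𝐰 * c) :
    (∃ b, b * mt = mt * b ∧ φ b = c) ∨ c * 𝐳 * c⁻¹ = 𝐭 := by
  obtain ⟨X, _, π, hπ⟩ := exists_cov (w := 𝐰) (mdl h.inj)
  haveI : Finite X := Finite.of_surjective _ hπ.surj
  have zz : 𝐳 * 𝐳 = 1 := mdl h.inj
  have n := (inferInstance : (oddCore X).Normal)
  have odd : ∀ o ∈ oddCore X, Odd (orderOf o) := fun o ho => Inv.odd_orderOf_of_mem Inv.odd_card_oddCore ho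
  have g1 : 𝐮 * d * 𝐳 * (𝐮 * d)⁻¹ = φ (mu * mt * mu) := cj_cj h.dz (mdl h.inj)
  have g2 : 𝐮 * d * φ (mz * mv) * (𝐮 * d)⁻¹ = 𝐰 := cj_cj (b := 𝐭 * 𝐯) (by rw [map_mul]; exact cj_mul h.dz h.dv) (mdl h.inj)
  have g3 : 𝐮 * d * 𝐯 * (𝐮 * d)⁻¹ = 𝐯 := cj_cj h.dv (mdl h.inj)
  have g4 : 𝐮 * d * φ mv2 * (𝐮 * d)⁻¹ = φ (mu * (mx⁻¹ * mv * mx) * mu⁻¹) := cj_cj (b := 𝐱⁻¹ * 𝐯 * 𝐱) (by
    rw [show φ mv2 = 𝐱 * 𝐯 * 𝐱⁻¹ from mdl h.inj]; exact cj_mul (cj_mul h.dx h.dv) (back h.dd h.dx))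
    (by simp only [map_mul, map_inv])
  generalize 𝐮 * d = g at g1 g2 g3 g4
  have pb : ∀ {r r' : El DH}, g * φ r * g⁻¹ = g * φ r' * g⁻¹ → r = r' := fun e => h.inj (by simpa using e)
  have cube : ∀ (a : centralizer ({𝐰} : Set G)) (r : El DH), g * φ r * g⁻¹ = a → π a ∈ oddCore X →
      r ^ 3 = 1 ∨ r ^ 3 = mz * mv := fun a r e ha => by
    have := pow3_of_odd (odd _ ha) (by
      rw [← map_pow, show a ^ 12 = 1 from Subtype.ext (by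
        rw [coe_pow, ← e, conj_pow, ← map_pow, f_12, map_one]; simp), map_one])
    rw [← map_pow, ← map_one π, hπ.eqv, coe_pow, ← e, conj_pow, ← map_pow] at this
    refine this.imp (fun e => pb ?_) fun e => pb ?_
    · rw [e, map_one]; simp
    · rw [e, g2]; simp
  have fix : ∀ o ∈ oddCore X, π (el φ (mu * mt * mu)) * o = o * π (el φ (mu * mt * mu)) → o = 1 := fun o ho e => by
    obtain ⟨a, rfl⟩ := hπ.surj o
    have e' : (a : G) * φ (mu * mt * mu) * (a : G)⁻¹ = φ (mu * mt * mu) := by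
      refine ((hπ.eqv (a * el φ (mu * mt * mu) * a⁻¹) (el φ (mu * mt * mu))).1 (by
        rw [map_mul, map_mul, map_inv]; exact cj_fix e.symm)).resolve_right fun e => h.zv' ?_
      obtain ⟨t, ht⟩ : ∃ t : El DH, t * mv * t⁻¹ = mu * mt * mu * mw := by decide +kernel
      refine ((cj_of g g1).trans (cj_of (a : G) (e.trans (map_mul φ _ _).symm))).trans (ht ▸ CM.cj t mv).symm
    obtain ⟨r, hr⟩ := h.pull (g := g) (y := a) (by rw [g1]; exact comm_of_cj e')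
    have hr' : g * φ r * g⁻¹ = a := by rw [hr]; group
    have cm : ∀ (b : centralizer ({𝐰} : Set G)) (s : El DH), g * φ s * g⁻¹ = b →
        (r * s * r⁻¹ * s⁻¹) ^ 3 = 1 ∨ (r * s * r⁻¹ * s⁻¹) ^ 3 = mz * mv := fun b s e =>
      cube (a * b * a⁻¹ * b⁻¹) _ (by
        simp only [map_mul, map_inv, coe_mul, coe_inv, ← e, ← hr']; group) (by
        rw [mul_assoc a, mul_assoc a, map_mul, map_mul, map_mul, map_inv, map_inv]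
        exact mul_mem ho (n.conj_mem _ (inv_mem ho) _))
    rcases f_core r (pb (by
      rw [map_mul φ r, map_mul φ _ r, cj_mul hr' g2, cj_mul g2 hr']; exact mem_cent.1 a.2)) (cube a r hr' ho)
      (cm (el φ mv) mv g3) (cm (el φ _) mv2 g4) with rfl | rfl
    · rw [← map_one π, hπ.eqv, ← hr', map_one]; simp
    · rw [← map_one π, hπ.eqv, ← hr', g2]; simp
  have hO : oddCore X = ⊥ := by
    have inv : ∀ o ∈ oddCore X, π (el φ (mu * mt * mu)) * o * (π (el φ (mu * mt * mu)))⁻¹ = o⁻¹ := fun o ho => by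
      obtain ⟨a, ha, i, -, h1, h2, h3⟩ := Inv.exists_fixed_mul_inverted odd (z := π (el φ (mu * mt * mu))) (by
        rw [← map_mul, ← map_one π]
        exact congrArg π (Subtype.ext (show φ _ * φ _ = 1 from mdl h.inj))) (fun x hx => n.conj_mem x hx _) ho
      rw [h3, fix a ha h1.symm.eq, one_mul, h2]
    have inv' : ∀ k : X, ∀ o ∈ oddCore X, k * π (el φ (mu * mt * mu)) * k⁻¹ * o * (k * π (el φ (mu * mt * mu)) * k⁻¹)⁻¹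
        = o⁻¹ := fun k o ho => by
      calc _ = k * (π (el φ (mu * mt * mu)) * (k⁻¹ * o * k⁻¹⁻¹) * (π (el φ (mu * mt * mu)))⁻¹) * k⁻¹ := by group
        _ = _ := by rw [inv _ (n.conj_mem o ho k⁻¹)]; group
    rw [eq_bot_iff]
    intro o ho
    refine fix o ho (comm_of_cj ?_)
    have := cj_cj (inv' (π (el φ mx)) o ho) ((inv' (π (el φ mx))⁻¹ _ (inv_mem ho)).trans (inv_inv o))
    rwa [show (π (el φ mx))⁻¹ * π (el φ (mu * mt * mu)) * (π (el φ mx))⁻¹⁻¹ *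
      (π (el φ mx) * π (el φ (mu * mt * mu)) * (π (el φ mx))⁻¹) = π (el φ (mu * mt * mu)) by
      simp only [← map_mul, ← map_inv]
      exact (hπ.eqv _ _).2 (Or.inr (show 𝐱⁻¹ * φ _ * 𝐱⁻¹⁻¹ * (𝐱 * φ _ * 𝐱⁻¹) = φ _ * 𝐰 from mdl h.inj))] at this
  have hz : IsIsolatedInvolution (π (el φ mz)) := by
    refine ⟨Inv.two_of_mul_self (fun e => ?_) (by
      rw [← map_mul, ← map_one π]; exact congrArg π (Subtype.ext zz)), fun a ha => ?_⟩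
    · rcases (hπ.eqv _ 1).1 (e.trans (map_one π).symm) with e | e
      · exact absurd e (show 𝐳 ≠ 1 from mdl h.inj)
      · exact absurd (e.trans (one_mul _)) (show 𝐳 ≠ 𝐰 from mdl h.inj)
    obtain ⟨a, rfl⟩ := hπ.surj a
    have e0 := ha.symm.eq
    simp only [← map_mul, ← map_inv] at e0 ⊢
    have ce : IsConj 𝐳 (a * 𝐳 * (a : G)⁻¹) := cj_of _ rfl
    have cw := mem_cent.1 (a * el φ mz * a⁻¹).2
    have ct : IsConj 𝐳 (a * 𝐳 * (a : G)⁻¹ * 𝐰) := h.zt.trans (cj_of (a : G) (by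
      rw [show 𝐭 = 𝐳 * 𝐰 from mdl h.inj]; exact cj_mul rfl (cj_fix (mem_cent.1 a.2))))
    rw [hπ.eqv] at e0 ⊢
    change (a : G) * 𝐳 * (a : G)⁻¹ * 𝐰 = 𝐰 * (a * 𝐳 * (a : G)⁻¹) at cw
    change (a : G) * 𝐳 * (a : G)⁻¹ * 𝐳 = 𝐳 * (a * 𝐳 * (a : G)⁻¹) ∨
      (a : G) * 𝐳 * (a : G)⁻¹ * 𝐳 = 𝐳 * (a * 𝐳 * (a : G)⁻¹) * 𝐰 at e0
    change (a : G) * 𝐳 * (a : G)⁻¹ = 𝐳 ∨ (a : G) * 𝐳 * (a : G)⁻¹ = 𝐳 * 𝐰
    generalize (a : G) * 𝐳 * (a : G)⁻¹ = e at ce cw ct e0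
    rcases e0 with e0 | e0
    · obtain ⟨b, rfl⟩ := (h.cent e).1 e0
      rcases f_D b (h.inj (by
          rw [map_mul, map_mul, show 𝐭 = 𝐳 * 𝐰 from mdl h.inj, ← mul_assoc, e0, mul_assoc, cw, mul_assoc]))
        (h.inj (by rw [map_mul, map_one]; exact sq_of_cj zz ce)) with rfl | rfl | rfl | ⟨t, rfl⟩ | ⟨t, rfl⟩ | ⟨t, e⟩
      · rw [map_one, isConj_one_left] at ce
        exact absurd ce (mdl h.inj)
      · exact Or.inl rfl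
      · exact Or.inr (mdl h.inj)
      · exact absurd (ce.trans (CM.cj t _).symm) h.zv'
      · exact absurd (ce.trans (CM.cj t _).symm) h.zw'
      · rw [← map_mul, ← e] at ct
        exact absurd (ct.trans (CM.cj t _).symm) h.zv'
    · obtain ⟨k, -, hk⟩ := h.out (sq_of_cj zz ce) (by
        rw [e0, mul_assoc 𝐳, cw, show 𝐭 = 𝐳 * 𝐰 from mdl h.inj]; group) cw
      exact absurd (ce.trans (cj_of k hk).symm) h.zw'
  let a : centralizer ({𝐰} : Set G) := ⟨c, mem_cent.2 hc⟩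
  rcases (hπ.eqv (a * el φ mz * a⁻¹) (el φ mz)).1 (by
    rw [map_mul, map_mul, map_inv]; exact cj_fix (Inv.zstar_commute hO hz (π a)).symm.eq) with e | e
  · obtain ⟨b, rfl⟩ := (h.cent c).1 (comm_of_cj e)
    exact Or.inl ⟨b, h.inj (by
      rw [map_mul, map_mul, show 𝐭 = 𝐳 * 𝐰 from mdl h.inj, ← mul_assoc, h.comm, mul_assoc, hc, mul_assoc]), rfl⟩
  · exact Or.inr (e.trans (show 𝐳 * 𝐰 = 𝐭 from mdl h.inj))

theorem cwx [Finite G] (h : PD φ d) {c : G} (hc : c * 𝐰 = 𝐰 * c) (hx : c * 𝐱 = 𝐱 * c) :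
    ∃ b, b * mt = mt * b ∧ b * mx = mx * b ∧ φ b = c := by
  rcases h.cw hc with ⟨b, b1, rfl⟩ | e
  · exact ⟨b, b1, h.inj (by rw [map_mul, map_mul, hx]), rfl⟩
  · obtain ⟨b, b1, b2⟩ := h.split e hc
    refine (f_noinv b b1 (h.inj ?_)).elim
    rw [map_mul, map_mul, map_inv, map_inv, b2]
    exact cj_cj (cj_fix hx) h.dx

theorem yy [Finite G] (h : PD φ d) : 𝐲 * (d * 𝐲 * d⁻¹) = d * 𝐲 * d⁻¹ * 𝐲 := by
  have ww : 𝐰 * 𝐰 = 1 := mdl h.inj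
  let w : centralizer ({𝐱} : Set G) := ⟨𝐰, mem_cent.2 (mdl h.inj)⟩
  let y : centralizer ({𝐱} : Set G) := ⟨𝐲, mem_cent.2 (mdl h.inj)⟩
  have x1 : d * 𝐲 * d⁻¹ * 𝐱 = 𝐱 * (d * 𝐲 * d⁻¹) := by
    have := cj_comm (show 𝐲 * 𝐱⁻¹ = 𝐱⁻¹ * 𝐲 from mdl h.inj) d
    rwa [back h.dd h.dx] at this
  let y' : centralizer ({𝐱} : Set G) := ⟨d * 𝐲 * d⁻¹, mem_cent.2 x1⟩
  have hw : IsIsolatedInvolution w := by
    refine ⟨Inv.two_of_mul_self (fun e => absurd (congrArg Subtype.val e) (show 𝐰 ≠ 1 from mdl h.inj))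
      (Subtype.ext ww), fun a ha => Subtype.ext ?_⟩
    obtain ⟨b, b1, b2, b3⟩ := h.cwx (congrArg Subtype.val ha.symm.eq) (mem_cent.1 (a * w * a⁻¹).2)
    have c : IsConj 𝐰 (φ b) := cj_of (a : G) b3.symm
    rcases f_k3 b b1 b2 (h.inj (by rw [map_mul, map_one]; exact sq_of_cj ww c)) with rfl | rfl | rfl | rfl
    · rw [map_one, isConj_one_left] at c
      exact absurd c (mdl h.inj)
    · exact b3.symm
    · exact absurd c.symm h.zw'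
    · exact absurd (h.zt.trans c.symm) h.zw'
  have w1 : 𝐰 * 𝐲 * 𝐰⁻¹ = 𝐲⁻¹ := mdl h.inj
  have w2 : 𝐰 * (d * 𝐲 * d⁻¹) * 𝐰⁻¹ = (d * 𝐲 * d⁻¹)⁻¹ := by
    calc _ = d * 𝐰 * d⁻¹ * (d * 𝐲 * d⁻¹) * (d * 𝐰 * d⁻¹)⁻¹ := by rw [h.dw]
      _ = d * (𝐰 * 𝐲 * 𝐰⁻¹) * d⁻¹ := by group
      _ = _ := by rw [w1]; group
  have z2 : 𝐳 * (d * 𝐲 * d⁻¹) * 𝐳⁻¹ = (d * 𝐲 * d⁻¹)⁻¹ := by
    calc _ = d * (𝐭 * 𝐲 * 𝐭⁻¹) * d⁻¹ := by rw [← h.dt]; group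
      _ = _ := by rw [show 𝐭 * 𝐲 * 𝐭⁻¹ = 𝐲⁻¹ from mdl h.inj]; group
  have m1 : y ∈ oddCore _ := (show w * y * w⁻¹ * y⁻¹ = y from Subtype.ext
    (show 𝐰 * 𝐲 * 𝐰⁻¹ * 𝐲⁻¹ = 𝐲 from mdl h.inj)) ▸ Inv.zstar hw y
  have m2 : y' ∈ oddCore _ := (show w * y' * w⁻¹ * y'⁻¹ = y' from Subtype.ext (by
    show 𝐰 * (d * 𝐲 * d⁻¹) * 𝐰⁻¹ * (d * 𝐲 * d⁻¹)⁻¹ = d * 𝐲 * d⁻¹
    rw [w2]
    nth_rw 3 [show 𝐲 = 𝐲⁻¹ * 𝐲⁻¹ from mdl h.inj]
    group)) ▸ Inv.zstar hw y'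
  have odd : ∀ o ∈ oddCore (centralizer ({𝐱} : Set G)), Odd (orderOf o) := fun o ho =>
    Inv.odd_orderOf_of_mem Inv.odd_card_oddCore ho
  obtain ⟨a, ha, i, -, h1, h2, h3⟩ := Inv.exists_fixed_mul_inverted odd (z := w) (Subtype.ext ww)
    (fun x hx => (inferInstance : (oddCore _).Normal).conj_mem x hx w) (mul_mem m1 m2)
  obtain ⟨b, b1, b2, b3⟩ := h.cwx (congrArg Subtype.val h1.eq) (mem_cent.1 a.2)
  have a3 : (a : G) ^ 3 = 1 := pow3_of_odd (by rw [orderOf_coe]; exact odd a ha) (by rw [← b3, ← map_pow, f_12, map_one])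
  have k : ∀ c : centralizer ({𝐱} : Set G), Commute (a : G) c := fun c => by
    rcases f_xo b b1 b2 (h.inj (by rw [map_pow, b3, a3, map_one])) with rfl | rfl | rfl <;> rw [← b3]
    · rw [map_one]; exact Commute.one_left _
    · exact (mem_cent.1 c.2).symm
    · rw [map_inv]; exact Commute.inv_left (mem_cent.1 c.2).symm
  have k1 : Commute (a : G) 𝐲 := k y
  have k2 : Commute (a : G) (d * 𝐲 * d⁻¹) := k y'
  have k3 : Commute (a : G) 𝐳 := k ⟨𝐳, mem_cent.2 (h.comm _).symm⟩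
  have h1' : 𝐰 * a * 𝐰⁻¹ = a := cj_fix (congrArg Subtype.val h1.symm.eq)
  have h2' : 𝐰 * i * 𝐰⁻¹ = (i : G)⁻¹ := congrArg Subtype.val h2
  have h3' : 𝐲 * (d * 𝐲 * d⁻¹) = a * i := congrArg Subtype.val h3
  have z1 : 𝐳 * 𝐲 * 𝐳⁻¹ = 𝐲 := mdl h.inj
  generalize d * 𝐲 * d⁻¹ = Y at *
  generalize (a : G) = A at *
  have s1 : 𝐲⁻¹ * Y⁻¹ = A * A * (Y⁻¹ * 𝐲⁻¹) := by
    rw [← cj_mul w1 w2, h3', cj_mul h1' h2', show (i : G) = A⁻¹ * (𝐲 * Y) by rw [h3']; group, mul_inv_rev, inv_inv,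
      ← (k1.mul_right k2).inv_right.eq, mul_inv_rev, mul_assoc]
  have s2 : 𝐲⁻¹ * Y = A * A * (Y * 𝐲⁻¹) := by
    have i1 : 𝐳 * 𝐲⁻¹ * 𝐳⁻¹ = 𝐲⁻¹ := mdl h.inj
    have i2 : 𝐳 * Y⁻¹ * 𝐳⁻¹ = Y := by
      calc _ = (𝐳 * Y * 𝐳⁻¹)⁻¹ := by group
        _ = _ := by rw [z2, inv_inv]
    rw [← cj_mul i1 i2, s1, cj_mul (cj_fix (k3.mul_left k3).symm.eq) (cj_mul i2 i1)]
  have s3 : A = 1 := by
    have : 𝐲⁻¹ = A * A * (A * A) * 𝐲⁻¹ := by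
      calc 𝐲⁻¹ = 𝐲⁻¹ * Y * Y⁻¹ := by group
        _ = A * A * (Y * (𝐲⁻¹ * Y⁻¹)) := by rw [s2]; group
        _ = A * A * (Y * (A * A) * Y⁻¹) * 𝐲⁻¹ := by rw [s1]; group
        _ = _ := by rw [cj_fix (k2.mul_left k2).symm.eq]
    rw [eq_comm, mul_eq_right] at this
    calc A = A * A ^ 3 := by rw [a3, mul_one]
      _ = 1 := by rw [← this]; simp only [pow_succ, pow_zero, one_mul, mul_assoc]
  rw [s3, one_mul, one_mul, ← mul_inv_rev, ← mul_inv_rev, inv_inj] at s1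
  exact s1.symm

end PD

end Cfsg.Agent.P43
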