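import Cfsg.Agent.P43.Cw
import Cfsg.Agent.P43.Psp
import Cfsg.Agent.S0270

/-!
# P43/Main: recognition of `PSp₄(3)` by the centraliser of a 2-central involution
-/

set_option autoImplicit false
set_option maxRecDepth 100000

namespace Cfsg.Agent.P43

open Cfsg.Agent.Comp Cfsg.Agent.Core Cfsg.Agent.M12R Subgroup

variable {G : Type*} [Group G] {φ : El DH →* G} {d : G}

/-- the letters -/
noncomputable def xs (φ : El DH →* G) (d : G) (n : ℕ) : G := [𝐭, 𝐮, 𝐱, 𝐱⁻¹, 𝐲, 𝐲⁻¹, d].getD n 1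

theorem xs_l (φ : El DH →* G) (d : G) {i : ℕ} (hi : i < 6) : xs φ d i = φ (El.l DH i) := by
  obtain ⟨l0, l1, l2, l3, l4, l5⟩ := l_eq
  interval_cases i <;> simp only [l0, l1, l2, l3, l4, l5, map_inv] <;> rfl

theorem PD.sat [Finite G] (h : PD φ d) : Sat (xs φ d) (RDH ++ RG) := by
  refine ((El.sat_l.map φ).congr fun w hw i hi =>
    (xs_l φ d ((by decide +kernel : ∀ w ∈ RDH, ∀ i ∈ w, i < 6) w hw i hi)).symm).append fun w hw => ?_
  simp only [RG, List.mem_cons, List.not_mem_nil, or_false] at hw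
  rcases hw with rfl | rfl | rfl | rfl | rfl | rfl <;>
    simp only [ev_cons, ev_nil, xs, List.getD_cons_succ, List.getD_cons_zero, mul_one]
  · exact h.dd
  · exact h.r2
  · exact h.r3
  · exact h.r4 (mdl h.inj)
  · exact h.du
  · calc _ = 𝐲 * (d * 𝐲 * d⁻¹) * (d * d) * 𝐲⁻¹ * (d * 𝐲 * d⁻¹)⁻¹ * (d * d) := by
          rw [h.dd, mul_one, mul_one, mul_inv_rev, mul_inv_rev, inv_inv, h.di]; simp only [mul_assoc]
      _ = 1 := by rw [h.yy, h.dd]; group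

theorem PD.top [Finite G] (h : PD φ d) : gen (xs φ d) 7 = ⊤ := by
  have hL : φ.range ≤ gen (xs φ d) 7 := by
    rw [MonoidHom.range_eq_map, ← El.gen_l, map_genW, gen_le]
    exact fun i hi => xs_l φ d hi ▸ letter_mem_gen (lt_trans hi (by decide))
  have hd : d ∈ gen (xs φ d) 7 := letter_mem_gen (x := 6) (by decide)
  generalize gen (xs φ d) 7 = H at hL hd
  have m : ∀ y, φ y ∈ H := fun y => hL ⟨y, rfl⟩
  have zz : 𝐳 * 𝐳 = 1 := mdl h.inj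
  have cj : ∀ t a : El DH, φ t * φ a * (φ t)⁻¹ = φ (t * a * t⁻¹) := fun t a => by simp only [map_mul, map_inv]
  have A : ∀ y : El DH, y * y = 1 → y = 1 ∨ (∃ k ∈ H, k * 𝐳 * k⁻¹ = φ y) ∨ ∃ k ∈ H, k * 𝐰 * k⁻¹ = φ y := fun y hy => by
    rcases f_inv y hy with rfl | rfl | ⟨t, rfl⟩ | ⟨t, rfl⟩ | ⟨t, rfl⟩
    · exact Or.inl rfl
    · exact Or.inr (Or.inl ⟨1, one_mem _, by group⟩)
    · obtain ⟨ψ, -, -, a3, a4, -, a6⟩ := h.exists_psi
      obtain ⟨c, hc⟩ := n_vw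
      exact Or.inr (Or.inr ⟨_, mul_mem (m t) (a6 H hL hd c), cj_cj (by
        rw [← a3, ← a4, ← hc]; simp only [map_mul, map_inv]) (cj t mv)⟩)
    · exact Or.inr (Or.inl ⟨_, mul_mem (m t) hd, cj_cj h.dz (cj t mt)⟩)
    · exact Or.inr (Or.inr ⟨_, m t, cj t mw⟩)
  have B : ∀ e, e * e = 1 → e * 𝐰 = 𝐰 * e → e = 1 ∨ (∃ k ∈ H, k * 𝐳 * k⁻¹ = e) ∨ ∃ k ∈ H, k * 𝐰 * k⁻¹ = e :=
    fun e ee he => by
    rcases h.cw he with ⟨b, -, rfl⟩ | e1
    · exact (A b (h.inj (by rw [map_mul, ee, map_one]))).imp_left fun e => by rw [e, map_one]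
    · obtain ⟨k, hk, e2⟩ := h.out ee e1 he
      exact Or.inr (Or.inr ⟨k, hk H hL hd, e2⟩)
  have C : ∀ e, IsConj 𝐳 e → (e = 1 ∨ (∃ k ∈ H, k * 𝐳 * k⁻¹ = e) ∨ ∃ k ∈ H, k * 𝐰 * k⁻¹ = e) →
      ∃ k ∈ H, k * 𝐳 * k⁻¹ = e := by
    rintro e he (rfl | H | ⟨k, -, hk⟩)
    · rw [isConj_one_left] at he
      exact absurd he (mdl h.inj)
    · exact H
    · exact absurd (he.trans (cj_of k hk).symm) h.zw'
  rw [eq_top_iff]
  intro g _
  have he : IsConj 𝐳 (g * 𝐳 * g⁻¹) := cj_of g rfl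
  obtain ⟨k, hk, e⟩ : ∃ k ∈ H, k * 𝐳 * k⁻¹ = g * 𝐳 * g⁻¹ := by
    generalize g * 𝐳 * g⁻¹ = e at he
    rcases Inv.isConj_or_exists_central (sq_of_cj zz he) (show 𝐰 * 𝐰 = 1 from mdl h.inj) with
      ⟨a, -, ha⟩ | ⟨c, -, c2, c3, c4⟩
    · exact absurd (he.trans (cj_of a ha)) h.zw'
    have D : ∀ k ∈ H, ∀ a, k * a * k⁻¹ = c → (∀ e, IsConj 𝐳 e → e * a = a * e → ∃ k ∈ H, k * 𝐳 * k⁻¹ = e) →
        ∃ k ∈ H, k * 𝐳 * k⁻¹ = e := fun k hk a ha H' => by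
      obtain ⟨k', hk', e'⟩ := H' (k⁻¹ * e * k⁻¹⁻¹) (he.trans (cj_of _ rfl)) (by
        have := cj_comm c3.eq.symm k⁻¹
        rwa [← ha, show k⁻¹ * (k * a * k⁻¹) * k⁻¹⁻¹ = a by group] at this)
      exact ⟨_, mul_mem hk hk', cj_cj e' (by group)⟩
    rcases B c (Inv.mul_self_of_two c2) c4.eq with rfl | ⟨k, hk, e1⟩ | ⟨k, hk, e1⟩
    · exact absurd rfl (Inv.ne_one_of_two c2)
    · refine D k hk _ e1 fun e he hc => C e he ?_
      obtain ⟨y, rfl⟩ := (h.cent e).1 hc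
      exact (A y (h.inj (by rw [map_mul, map_one]; exact sq_of_cj zz he))).imp_left fun e => by rw [e, map_one]
    · exact D k hk _ e1 fun e he hc => C e he (B e (sq_of_cj zz he) hc)
  obtain ⟨l, hl⟩ := (h.cent (k⁻¹ * g)).1 (comm_of_cj (by
    calc _ = k⁻¹ * (g * 𝐳 * g⁻¹) * k := by group
      _ = _ := by rw [← e]; group))
  rw [show g = k * φ l by rw [hl]; group]
  exact mul_mem hk (m l)

theorem janko [Finite G] (hG : ∀ H : Subgroup G, H.index ≠ 2) {F : Type*} [Field F] [Fintype F]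
    (hF : Fintype.card F = 3) (U : Sylow 2 (PSp 2 F)) {u : PSp 2 F} (hu : orderOf u = 2)
    (hc : ∀ p ∈ U, p * u = u * p) {t : G} (ht : orderOf t = 2)
    (e : centralizer ({t} : Set G) ≃* centralizer ({u} : Set (PSp 2 F))) : Nonempty (G ≃* PSp 2 F) := by
  obtain ⟨σ, h1, h2, φ, h⟩ := exists_model F hF
  haveI : Finite (PSp 2 F) := Nat.finite_of_card_ne_zero (by rw [card_psp F hF]; decide)
  obtain ⟨e'⟩ := h.equiv (h.two_central (a := 6) (by decide +kernel) (by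
    rw [Nat.factorization_def _ (by norm_num)]; decide +kernel) f_small U hu hc)
  obtain ⟨ψ, h', -⟩ := exists_cm (Inv.ne_one_of_two ht) (e'.trans e.symm) fun g hg =>
    f_center g (hg _) (hg _) (hg _) (hg _)
  obtain ⟨φ, d, H⟩ := exists_pd h' hG
  haveI := S0270.result (F := F) 2 le_rfl fun _ => hF.ge
  obtain ⟨e⟩ := equiv_gen (L := 7) (R := RDH ++ RG) (by decide +kernel)
    ((CardLe.step (cardLe_nil _) (TCDH.index _ _ ((presS_sat 7 _).mono fun w hw => List.mem_append_left _ hw))).step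
      (TCG.index _ _ (presS_sat 7 _))) (card_psp F hF) h1 h2 H.sat (x := 0) (by decide) (show 𝐭 ≠ 1 from mdl H.inj)
  exact ⟨(topEquiv.symm.trans (MulEquiv.subgroupCongr H.top.symm)).trans e⟩

end Cfsg.Agent.P43
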